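import Cfsg.Agent.H66.M23.Loc
import Cfsg.Agent.MFiveHN.Closed
import Cfsg.Agent.KFacts.HN.PCard
import Cfsg.Agent.KFacts.HN.Classes
import Cfsg.Agent.BpSpor.MBigEleven
import Cfsg.Agent.LThreeB.Final
import Cfsg.Agent.SmallSimple.Simple168Classes

/-!
# The Monster: the centralizer of an element of the class 5A and its elements of the class 2A (helper66)

`u` of order 5, `C(u) = ⟨u⟩ × T`, `T ≅ HN`; the involutions of `T` of the class 2A of the Monster are the involutions
`t` with `|C_T(t)| = 177408000`; `y ∈ C_T(t)` of order 11.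
-/

set_option autoImplicit false
set_option maxRecDepth 100000

namespace Cfsg.Agent.H66.M23.Five

open Cfsg Cfsg.Agent.H66.M23.Loc
open Cfsg.Agent.BpSpor.MBigModel (MG zz pi chart card_M card_cent_z card_cent_t ta_iota orderOf_zz)
open Cfsg.Agent.LThreeMB (fr XX)
open Cfsg.Agent.MonsterX Cfsg.Agent.MonsterX.InstData
open Cfsg.Agent.MonsterX.MainPack Cfsg.Agent.MonsterU
open Cfsg.Agent.MonsterU.Lam2
open Subgroup (centralizer zpowers mem_centralizer_singleton_iff)

/-! ### a vector of type 2 fixed by `xx` -/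

section vector

open Cfsg.Agent.SporadicA Cfsg.Agent.SporadicA.Co0Mono Cfsg.Agent.SporadicStructure.Co0Matrix
open Cfsg.Agent.MFiveHN.Perm Cfsg.Agent.MFiveHN.Cent Cfsg.Agent.MFiveHN.FixB

def wl : List ℤ := [0, 0, 0, 0, 0, 0, 4, 4, 0, 0, 0, 0, 0, 0, 0, 0, 0, 0, 0, 0, 0, 0, 0, 0]

theorem wl_ok : leechB wl = true := by decide +kernel

def wv : leechLattice := ⟨vec wl, vec_mem_of_leechB wl_ok⟩

theorem norm_wv : sqNorm (vec wl) = 32 := by decide +kernel

theorem fix_wl : ∀ p : GolayPt, vec wl (pi5.symm p) = vec wl p := by decide +kernel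

theorem smul_wv : a5 • wv = wv := by
  apply Subtype.ext
  funext p
  rw [smul_coe]
  exact fix_wl p

theorem fixed_wv : xx • cl wv = cl wv := by rw [smul_xx, smul_cl, smul_wv]

theorem type_wv : IsType 2 (cl wv) := ⟨wv, by
  show sqNorm (vec wl) = 16 * 2
  rw [norm_wv]
  norm_num, rfl⟩

end vector

/-- the element `u`, an involution of the class 2A commuting with it -/
theorem exists_base : ∃ (u : centralizer ({zz} : Set MG)) (t : MG), orderOf u = 5 ∧ pi u = MFiveHN.Cent.xx ∧
    LThreeB.Row.TA t ∧ (u : MG) * t = t * u := by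
  obtain ⟨u, hu, hpu⟩ := MFive.KPair.exists_order chart Nat.prime_five (by decide) MFiveHN.Cent.order_x
  obtain ⟨p, hp⟩ := TwoCls.clP_surjective KDone.lft (cl wv)
  have hu5 : u ^ 5 = 1 := by rw [← hu, pow_orderOf_eq_one]
  refine ⟨u, KDone.K.ι p, hu, hpu, ta_iota (by rw [hp]; exact type_wv), ?_⟩
  refine (MFive.comm_iff_fix chart (by decide) hu5 ⟨p, rfl⟩).2 ?_
  rw [LThreeMB.KChart.eta_ι, hp, hpu]
  exact fixed_wv

/-! ### the involutions of `HN` -/

section hn

variable {T : Type*} [Group T]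

theorem card_cent_equiv {S : Type*} [Group S] (e : T ≃* S) (s : T) :
    Nat.card (centralizer ({s} : Set T)) = Nat.card (centralizer ({e s} : Set S)) := by
  refine Nat.card_congr (e.toEquiv.subtypeEquiv fun g => ?_)
  rw [mem_centralizer_singleton_iff, mem_centralizer_singleton_iff]
  show g * s = s * g ↔ e g * e s = e s * e g
  rw [← map_mul, ← map_mul, e.injective.eq_iff]

theorem card_cent_isConj {a b : T} (h : IsConj a b) :
    Nat.card (centralizer ({a} : Set T)) = Nat.card (centralizer ({b} : Set T)) := by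
  obtain ⟨c, hc⟩ := isConj_iff.1 h
  rw [card_cent_equiv (MulAut.conj c) a, MulAut.conj_apply, hc]

theorem two_conj (e : T ≃* Spor.HN) {s : T} (hs : orderOf s = 2) :
    (IsConj (e s) (Cfsg.Agent.HN.NormalH.ψ Cfsg.Agent.HN.H0Basic.τ) ∧
      Nat.card (centralizer ({s} : Set T)) = 177408000) ∨
    (IsConj (e s) Cfsg.Agent.HN.XWords.W0 ∧ Nat.card (centralizer ({s} : Set T)) = 3686400) := by
  have h1 : orderOf (e s) = 2 := by rw [e.orderOf_eq, hs]
  rcases Cfsg.Agent.KFacts.HN.Classes.inv_class h1 with h | h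
  · refine Or.inl ⟨h, ?_⟩
    rw [card_cent_equiv e, card_cent_isConj h]
    exact Cfsg.Agent.KFacts.HN.Classes.card_centralizer_τ
  · refine Or.inr ⟨h, ?_⟩
    rw [card_cent_equiv e, card_cent_isConj h]
    exact Cfsg.Agent.KFacts.HN.PCard.card_centralizer

/-- two involutions of `HN` with centralizers of the same order are conjugate -/
theorem isConj_of_card (e : T ≃* Spor.HN) {a b : T} (ha : orderOf a = 2) (hb : orderOf b = 2)
    (h : Nat.card (centralizer ({a} : Set T)) = Nat.card (centralizer ({b} : Set T))) : IsConj a b := by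
  have key : IsConj (e a) (e b) := by
    rcases two_conj e ha with ⟨h1, h2⟩ | ⟨h1, h2⟩ <;> rcases two_conj e hb with ⟨h3, h4⟩ | ⟨h3, h4⟩
    · exact h1.trans h3.symm
    · rw [h2, h4] at h
      norm_num at h
    · rw [h2, h4] at h
      norm_num at h
    · exact h1.trans h3.symm
  obtain ⟨c, hc⟩ := isConj_iff.1 key
  refine isConj_iff.2 ⟨e.symm c, e.injective ?_⟩
  rw [map_mul, map_mul, map_inv, e.apply_symm_apply, hc]

end hn

/-- the elements of `C(v)` of order prime to `p` are in `T` -/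
theorem DP.mem_of_pow {G S : Type} [Group G] [Group S] {p : ℕ} (hp : p.Prime) {v : G} {T : Subgroup G}
    (h : DP S p v T) {w : G} {m : ℕ} (hw : w ^ m = 1) (hm : ¬ p ∣ m) (hc : w * v = v * w) : w ∈ T := by
  obtain ⟨i, t, ht, rfl⟩ := h.split w (mem_centralizer_singleton_iff.2 hc)
  have hvt : Commute (v ^ i) t := by
    have h1 : t * v = v * t := mem_centralizer_singleton_iff.1 (h.le ht)
    exact (show Commute v t from h1.symm).pow_left i
  rw [hvt.mul_pow] at hw
  have h2 : (v ^ i) ^ m ∈ T := by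
    rw [eq_inv_of_mul_eq_one_left hw]
    exact T.inv_mem (T.pow_mem ht m)
  have h3 : (v ^ i) ^ m = 1 := by
    have h4 := Subgroup.disjoint_def.1 h.disj (x := (v ^ i) ^ m)
      (Subgroup.pow_mem _ (Subgroup.pow_mem _ (Subgroup.mem_zpowers v) i) m) h2
    exact h4
  rw [← pow_mul, ← orderOf_dvd_iff_pow_eq_one, h.ord] at h3
  have h5 : p ∣ i := (hp.dvd_mul.1 h3).resolve_right hm
  have h6 : v ^ i = 1 := by rw [← orderOf_dvd_iff_pow_eq_one, h.ord]; exact h5
  rw [h6, one_mul]
  exact ht

/-- the local data of the class `5A` -/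
structure Local (u : MG) (C T : Subgroup MG) (t y : T) : Prop where
  iso : Spor.IsoHN T
  ord : orderOf u = 5
  cent : C = centralizer ({u} : Set MG)
  le : T ≤ C
  card : Nat.card C = 5 * Nat.card T
  notMem : u ∉ T
  pows : ∀ k : ℕ, ¬ 5 ∣ k → ∃ n : MG, n * u * n⁻¹ = u ^ k
  norm : ∀ g ∈ Subgroup.normalizer ((zpowers u : Subgroup MG) : Set MG), ∀ t ∈ T, g * t * g⁻¹ ∈ T
  cardT : Nat.card T = 273030912000000
  ot : orderOf t = 2
  ta : LThreeB.Row.TA (t : MG)
  ct : Nat.card (centralizer ({(t : MG)} : Set MG)) = 8309562962452852382355161088000000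
  cT : Nat.card (centralizer ({t} : Set T)) = 177408000
  fus : ∀ s : T, IsConj (t : MG) (s : MG) ↔ IsConj t s
  iff_card : ∀ s : T, orderOf s = 2 → (IsConj (t : MG) (s : MG) ↔ Nat.card (centralizer ({s} : Set T)) = 177408000)
  num : Nat.card {s : T // IsConj (t : MG) (s : MG)} = 1539000
  oy : orderOf y = 11
  comm : Commute t y

theorem card_inf_dvd {w : ℕ} (hw : w.Prime) (hodd : Odd w) (h7 : ¬ w ∣ 36000)
    {u : centralizer ({zz} : Set MG)} (hpu : pi u = MFiveHN.Cent.xx) {g : MG} (hg : orderOf g = w)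
    (hgz : g * zz = zz * g) (hgu : g * (u : MG) = u * g) : False := by
  have hfc : Finite (Spor.Co1) := BpSpor.MBigCo.finite_co1
  let g' : centralizer ({zz} : Set MG) := ⟨g, mem_centralizer_singleton_iff.2 hgz⟩
  have hg' : orderOf g' = w := by rw [← hg]; exact Subgroup.orderOf_mk g _
  have h1 : orderOf (pi g') = w := MFive.orderOf_pi chart hw hodd hg'
  have h2 : pi g' * MFiveHN.Cent.xx = MFiveHN.Cent.xx * pi g' := by
    rw [← hpu, ← map_mul, ← map_mul]
    congr 1
    exact Subtype.ext hgu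
  have h3 := orderOf_dvd_natCard (⟨pi g', mem_centralizer_singleton_iff.2 h2⟩ :
    centralizer ({MFiveHN.Cent.xx} : Set Spor.Co1))
  rw [Subgroup.orderOf_mk, h1, BpRankZero.Seven.card_cent, MFiveHN.Cent.quo.1, MFiveHN.Cent.order_x] at h3
  exact h7 (by norm_num at h3 ⊢; exact h3)

/-- **The local structure of the class 5A.** -/
theorem local_five : ∃ (u : MG) (C T : Subgroup MG) (t y : T), Local u C T t y := by
  have hfin : Finite MG := Cfsg.Agent.BpSpor.MBigModel.finite
  have hsim : IsSimpleGroup MG := Cfsg.Agent.BpSpor.MBigModel.simple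
  obtain ⟨u, t, hu, hpu, hta, hut⟩ := exists_base
  have huo : orderOf (u : MG) = 5 := by rw [Subgroup.orderOf_coe, hu]
  have hu5 : u ^ 5 = 1 := by rw [← hu, pow_orderOf_eq_one]
  obtain ⟨e0⟩ := MFiveHN.Closed.hnEight chart u hu (by rw [hpu]; exact MFiveHN.Inst.fr_xx)
  have hs : IsSimpleGroup Spor.HN := Cfsg.Agent.S1701.result.1
  have hfinHN : Finite Spor.HN := Nat.finite_of_card_ne_zero (by rw [Cfsg.Agent.S2056.card_HN]; norm_num)
  obtain ⟨T, hT⟩ := DP.of_split (Cfsg.Agent.H53.OddLift.commutator_eq_top_of_card Cfsg.Agent.S2056.card_HN (by norm_num))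
    Nat.prime_five (Split.noStem_of_mult Cfsg.Agent.S2056.result (by norm_num)) huo e0
  obtain ⟨e⟩ := hT.iso
  have hcardT : Nat.card T = 273030912000000 := by rw [Nat.card_congr e.toEquiv, Cfsg.Agent.S2056.card_HN]
  -- `z` and `t` are in `T`
  have ht2 : orderOf t = 2 := LThreeB.Final.orderOf_of_TA hta
  have htt : t ^ 2 = 1 := by rw [← ht2, pow_orderOf_eq_one]
  have hzz : zz ^ 2 = 1 := by rw [← orderOf_zz, pow_orderOf_eq_one]
  have htT : t ∈ T := DP.mem_of_pow Nat.prime_five hT htt (by norm_num) hut.symm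
  have hzu : zz * (u : MG) = u * zz := (mem_centralizer_singleton_iff.1 u.2).symm
  have hzT : zz ∈ T := DP.mem_of_pow Nat.prime_five hT hzz (by norm_num) hzu
  let t' : T := ⟨t, htT⟩
  let z' : T := ⟨zz, hzT⟩
  have ht' : orderOf t' = 2 := by rw [← ht2]; exact Subgroup.orderOf_mk t _
  have hz' : orderOf z' = 2 := by rw [← orderOf_zz]; exact Subgroup.orderOf_mk zz _
  have hct := card_cent_t hta
  -- `z` is not conjugate to `t`
  have hnz : ¬ IsConj t zz := by
    intro h
    have h1 := card_cent_isConj h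
    rw [hct, card_cent_z] at h1
    norm_num at h1
  -- the centralizer of `z` in `T`
  have hcz : Nat.card (centralizer ({z'} : Set T)) = 3686400 := by
    rcases two_conj e hz' with ⟨-, h⟩ | ⟨-, h⟩
    · exfalso
      have : Fact (Nat.Prime 7) := ⟨by norm_num⟩
      obtain ⟨w, hw⟩ := exists_prime_orderOf_dvd_card' 7 (show 7 ∣ Nat.card (centralizer ({z'} : Set T)) by
        rw [h]; norm_num)
      have h1 : orderOf (((w : T) : MG)) = 7 := by rw [Subgroup.orderOf_coe, Subgroup.orderOf_coe, hw]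
      have h2 : ((w : T) : MG) * zz = zz * ((w : T) : MG) :=
        congrArg Subtype.val (mem_centralizer_singleton_iff.1 w.2)
      have h3 : ((w : T) : MG) * (u : MG) = u * ((w : T) : MG) :=
        mem_centralizer_singleton_iff.1 (hT.le (w : T).2)
      exact card_inf_dvd (by norm_num) (by decide) (by norm_num) hpu h1 h2 h3
    · exact h
  have hcT : Nat.card (centralizer ({t'} : Set T)) = 177408000 := by
    rcases two_conj e ht' with ⟨-, h⟩ | ⟨-, h⟩
    · exact h
    · exfalso
      apply hnz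
      obtain ⟨c, hc⟩ := isConj_iff.1 (isConj_of_card e ht' hz' (by rw [h, hcz]))
      exact isConj_iff.2 ⟨c, congrArg Subtype.val hc⟩
  have hfus : ∀ s : T, IsConj (t' : MG) (s : MG) ↔ IsConj t' s := by
    intro s
    constructor
    · intro h
      have hso : orderOf s = 2 := by
        rw [← ht2, ← Subgroup.orderOf_coe]
        obtain ⟨c, hc⟩ := isConj_iff.1 h
        rw [← hc]
        exact MulEquiv.orderOf_eq (MulAut.conj c) t
      rcases two_conj e hso with ⟨-, h1⟩ | ⟨-, h1⟩
      · exact isConj_of_card e ht' hso (by rw [hcT, h1])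
      · exfalso
        apply hnz
        obtain ⟨c, hc⟩ := isConj_iff.1 (isConj_of_card e hso hz' (by rw [h1, hcz]))
        exact h.trans (isConj_iff.2 ⟨c, congrArg Subtype.val hc⟩)
    · intro h
      obtain ⟨c, hc⟩ := isConj_iff.1 h
      exact isConj_iff.2 ⟨c, congrArg Subtype.val hc⟩
  have : Fact (Nat.Prime 11) := ⟨by norm_num⟩
  obtain ⟨y, hy⟩ := exists_prime_orderOf_dvd_card' 11 (show 11 ∣ Nat.card (centralizer ({t'} : Set T)) by
    rw [hcT]; norm_num)
  refine ⟨u, centralizer ({(u : MG)} : Set MG), T, t', (y : T), ?_⟩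
  refine ⟨⟨e⟩, huo, rfl, hT.le, hT.card, hT.not_mem, ?_, ?_, hcardT, ht', hta, ?_, hcT, hfus, ?_, ?_, ?_, ?_⟩
  · intro k hk
    have hpo : orderOf (pi u) = 5 := by rw [hpu]; exact MFiveHN.Cent.order_x
    obtain ⟨s, hs'⟩ := isConj_iff.1 (CoFive.Ranks.isConj_pow_co1 hpo (n := k) (by omega)).symm
    obtain ⟨c, hc⟩ := MFive.exists_conj_of_conj chart Nat.prime_five (by decide) hu5 (y := u ^ k)
      (by rw [← pow_mul, mul_comm, pow_mul, hu5, one_pow]) (s := s) (by rw [map_pow]; exact hs')
    exact ⟨c, congrArg Subtype.val hc⟩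
  · intro g hg t ht
    have h1 : g * (u : MG) * g⁻¹ ∈ zpowers (u : MG) :=
      (Subgroup.mem_normalizer_iff.1 hg (u : MG)).1 (Subgroup.mem_zpowers _)
    obtain ⟨k, hk⟩ := Subgroup.mem_zpowers_iff.1 h1
    exact hT.conj_mem Nat.prime_five hk.symm t ht
  · rw [show ((t' : T) : MG) = t from rfl, hct]
  · intro s hs
    rw [hfus s]
    constructor
    · intro h
      rw [← hcT]
      exact (card_cent_isConj h).symm
    · intro h
      exact isConj_of_card e ht' hs (by rw [hcT, h])
  · rw [Nat.card_congr (Equiv.subtypeEquivRight hfus)]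
    have h1 := Cfsg.Agent.SmallSimple.Simple168.card_isConj_mul_card_centralizer t'
    rw [hcT, hcardT] at h1
    omega
  · rw [Subgroup.orderOf_coe, hy]
  · exact (mem_centralizer_singleton_iff.1 y.2).symm

end Cfsg.Agent.H66.M23.Five
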