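import Cfsg.Agent.H66.M23.Loc
import Cfsg.Agent.H436.M23.Pure
import Cfsg.Agent.H544.Ccp.MEleven
import Cfsg.Agent.H603.FD.Spor

/-!
# The Monster: the centralizer of an element of order 11 (helper66)

`C(x) = ⟨x⟩ × L`, `L ≅ M₁₂`, for every `x` of order 11; all the elements of order 11 are conjugate.
-/

set_option autoImplicit false
set_option maxRecDepth 100000

namespace Cfsg.Agent.H66.M23.Eleven

open Cfsg Cfsg.Agent.H241.Mon Cfsg.Agent.H66.M23.Loc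
open Cfsg.Agent.H800.ME.Final Cfsg.Agent.H800.ME.CoFacts
open Cfsg.Agent.LThreeMB (XX)
open Subgroup (centralizer zpowers mem_centralizer_singleton_iff)

instance finM12 : Finite Spor.M12 :=
  Nat.finite_of_card_ne_zero (by rw [Cfsg.Agent.MTwelveType.SylowModel.card_M12]; norm_num)

theorem perf : _root_.commutator Spor.M12 = ⊤ := by
  have hs : IsSimpleGroup Spor.M12 := (Cfsg.Agent.H603.FD.Spor.isM12 (⟨MulEquiv.refl _⟩ : Spor.IsoM12 Spor.M12)).1
  exact Cfsg.Agent.H53.OddLift.commutator_eq_top_of_card Cfsg.Agent.MTwelveType.SylowModel.card_M12 (by norm_num)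

/-- from `C(x) / ⟨x⟩ ≅ M₁₂` to `C(x) = ⟨x⟩ × L` -/
theorem exists_dp {x : Gam} (hx : orderOf x = 11) (e : XX x ≃* Spor.M12) : ∃ L : Subgroup Gam, DP Spor.M12 11 x L :=
  DP.of_split perf prime11 (Split.noStem_of_mult Cfsg.Agent.S2035.result (by norm_num)) hx e

theorem base : ∃ (x : Gam) (L : Subgroup Gam), Nonempty (XX x ≃* Spor.M12) ∧ DP Spor.M12 11 x L ∧
    ∀ n : ℕ, n % 11 ≠ 0 → ∃ c : Gam, c * x * c⁻¹ = x ^ n := by
  obtain ⟨x, hx, hpx⟩ := exists_x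
  have hxo : orderOf (x : Gam) = 11 := by rw [Subgroup.orderOf_coe, hx]
  have hx11 : x ^ 11 = 1 := by rw [← hx, pow_orderOf_eq_one]
  have hX11 : (x : Gam) ^ 11 = 1 := by rw [← hxo, pow_orderOf_eq_one]
  have hd := dvd_XX hxo
  obtain ⟨e⟩ := Cfsg.Agent.H800.ME.Twelve.iso Cfsg.Agent.BpSpor.MBigModel.chart hx hpx hd
  obtain ⟨L, hL⟩ := exists_dp hxo e
  refine ⟨x, L, ⟨e⟩, hL, ?_⟩
  -- `x ^ 3` and `x⁻¹`
  have h3 : ∃ c : Gam, c * x * c⁻¹ = (x : Gam) ^ 3 := by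
    obtain ⟨c, hc, -, -⟩ := exists_f Cfsg.Agent.BpSpor.MBigModel.chart hx hpx
    exact ⟨c, congrArg Subtype.val hc⟩
  have h2 : ∃ c : Gam, c * x * c⁻¹ = (x : Gam) ^ 10 := by
    obtain ⟨c, hc⟩ := MFive.exists_conj_of_conj Cfsg.Agent.BpSpor.MBigModel.chart prime11 (by decide) (x := x) (y := x⁻¹)
      hx11 (by rw [inv_pow, hx11, inv_one]) (s := t) (by rw [hpx, map_inv, hpx]; exact ts)
    refine ⟨c, ?_⟩
    have h4 : (c : Gam) * x * (c : Gam)⁻¹ = (x : Gam)⁻¹ := congrArg Subtype.val hc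
    rw [h4, inv_eq_iff_mul_eq_one, ← pow_succ', hX11]
  have hcl : IsConj (x : Gam) ((x : Gam) ^ 3) := isConj_iff.2 h3
  have hcl2 : IsConj (x : Gam) ((x : Gam) ^ 10) := isConj_iff.2 h2
  have step : ∀ i j : ℕ, IsConj (x : Gam) ((x : Gam) ^ i) → IsConj (x : Gam) ((x : Gam) ^ j) →
      IsConj (x : Gam) ((x : Gam) ^ (i * j)) := by
    intro i j hi hj
    obtain ⟨c, hc⟩ := isConj_iff.1 hi
    obtain ⟨d, hd⟩ := isConj_iff.1 hj
    refine isConj_iff.2 ⟨d * c, ?_⟩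
    have h5 : d * c * (x : Gam) * (d * c)⁻¹ = d * (c * x * c⁻¹) * d⁻¹ := by group
    rw [h5, hc, ← conj_pow, hd, ← pow_mul, mul_comm j i]
  have red : ∀ i j : ℕ, i % 11 = j % 11 → IsConj (x : Gam) ((x : Gam) ^ i) → IsConj (x : Gam) ((x : Gam) ^ j) := by
    intro i j hij h
    have h5 : (x : Gam) ^ i = (x : Gam) ^ j := by
      rw [pow_eq_pow_iff_modEq, hxo]
      exact hij
    rwa [h5] at h
  have c1 : IsConj (x : Gam) ((x : Gam) ^ 1) := by rw [pow_one]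
  have c3 := hcl
  have c9 := red (3 * 3) 9 rfl (step 3 3 c3 c3)
  have c5 := red (9 * 3) 5 rfl (step 9 3 c9 c3)
  have c4 := red (5 * 3) 4 rfl (step 5 3 c5 c3)
  have c10 := hcl2
  have c8 := red (10 * 3) 8 rfl (step 10 3 c10 c3)
  have c2 := red (10 * 9) 2 rfl (step 10 9 c10 c9)
  have c6 := red (10 * 5) 6 rfl (step 10 5 c10 c5)
  have c7 := red (10 * 4) 7 rfl (step 10 4 c10 c4)
  intro n hn
  rw [← isConj_iff]
  have hlt := Nat.mod_lt n (show 0 < 11 by norm_num)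
  have key : ∀ r : ℕ, r < 11 → r ≠ 0 → IsConj (x : Gam) ((x : Gam) ^ r) := by
    intro r h6 h7
    interval_cases r <;> first | exact absurd rfl h7 | assumption
  exact red (n % 11) n (Nat.mod_mod n 11) (key _ hlt hn)

/-- **All the elements of order 11 are conjugate.** -/
theorem isConj {g h : Gam} (hg : orderOf g = 11) (hh : orderOf h = 11) : IsConj g h := by
  obtain ⟨x, L, -, hL, hpow⟩ := base
  exact (Cfsg.Agent.H436.M23.Pure.isConj_all hL hpow hg).symm.trans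
    (Cfsg.Agent.H436.M23.Pure.isConj_all hL hpow hh)

/-- **The centralizer of an element of order 11.** -/
theorem all {g : Gam} (hg : orderOf g = 11) : (∃ L : Subgroup Gam, DP Spor.M12 11 g L) ∧
    ∀ n : ℕ, n % 11 ≠ 0 → ∃ c : Gam, c * g * c⁻¹ = g ^ n := by
  obtain ⟨x, L, ⟨e⟩, hL, hpow⟩ := base
  obtain ⟨c, hc⟩ := isConj_iff.1 (isConj hL.ord hg)
  constructor
  · obtain ⟨-, ⟨f⟩⟩ := Cfsg.Agent.LThreeMB.exists_XX_equiv hc
    exact exists_dp hg (f.symm.trans e)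
  · intro n hn
    obtain ⟨d, hd⟩ := hpow n hn
    refine ⟨c * d * c⁻¹, ?_⟩
    rw [← hc, conj_pow, ← hd]
    group

theorem card_cent {g : Gam} (hg : orderOf g = 11) : Nat.card (centralizer ({g} : Set Gam)) = 1045440 := by
  obtain ⟨⟨L, hL⟩, -⟩ := all hg
  obtain ⟨e⟩ := hL.iso
  rw [hL.card, Nat.card_congr e.toEquiv, Cfsg.Agent.MTwelveType.SylowModel.card_M12]

end Cfsg.Agent.H66.M23.Eleven
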