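import Cfsg.Agent.H66.M23.Split
import Cfsg.Agent.H241.NHMonA
import Cfsg.Agent.H53.OddLift
import Cfsg.Agent.H800.ME.Final
import Cfsg.Agent.S2056
import Cfsg.Agent.S2035

/-!
# The Monster: the centralizers of an element of the class 5A and of the elements of order 11 (helper66)

`C(5A) = ⟨v⟩ × T` with `T ≅ HN`, `C(11A) = ⟨x⟩ × T` with `T ≅ M12`; `v` and `x` are rational, and the elements which
normalize `⟨v⟩` normalize `T`.
-/

set_option autoImplicit false
set_option maxRecDepth 100000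

namespace Cfsg.Agent.H66.M23.Loc

open Cfsg Cfsg.Agent.H241.Mon Cfsg.Agent.MonsterX.MainBasic
open Cfsg.Agent.LThreeMB (fr XX KChart.pi)
open Cfsg.Agent.MonsterX Cfsg.Agent.MonsterX.InstData Cfsg.Agent.MonsterX.MainPack Cfsg.Agent.MonsterU
open Subgroup (centralizer zpowers mem_centralizer_singleton_iff)
open Cfsg.Spor (Co1)

/-- `C(v) = ⟨v⟩ × T`, `T ≅ S`, `v` is rational and `N(⟨v⟩)` normalizes `T`. -/
structure DP {G : Type} [Group G] (S : Type) [Group S] (p : ℕ) (v : G) (T : Subgroup G) : Prop where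
  ord : orderOf v = p
  comm : T = ⁅centralizer ({v} : Set G), centralizer ({v} : Set G)⁆
  le : T ≤ centralizer ({v} : Set G)
  card : Nat.card (centralizer ({v} : Set G)) = p * Nat.card T
  not_mem : v ∉ T
  disj : Disjoint (zpowers v) T
  split : ∀ c ∈ centralizer ({v} : Set G), ∃ i : ℕ, ∃ t ∈ T, c = v ^ i * t
  iso : Nonempty (T ≃* S)

theorem DP.of_split {G S : Type} [Group G] [Finite G] [Group S] (hperf : _root_.commutator S = ⊤) {p : ℕ}
    (hp : p.Prime) (hmul : Split.NoStem S p) {v : G} (hv : orderOf v = p) (e : XX v ≃* S) :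
    ∃ T : Subgroup G, DP S p v T := by
  obtain ⟨T, h1, h2, h3, h4, h5, h6, h7⟩ := Split.main hperf hp hmul hv e
  exact ⟨T, hv, h1, h2, h3, h4, h5, h6, h7⟩

theorem DP.conj_mem {G S : Type} [Group G] [Finite G] [Group S] {p : ℕ} (hp : p.Prime) {v : G} {T : Subgroup G}
    (h : DP S p v T) {n : G} {k : ℤ} (hn : n * v * n⁻¹ = v ^ k) (t : G) (ht : t ∈ T) : n * t * n⁻¹ ∈ T :=
  Split.conj_mem_T hn hp h.ord h.comm t ht

/-- **The local structure of the class 5A.** -/
theorem five : ∃ (v : Gam) (T : Subgroup Gam), DP Spor.HN 5 v T ∧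
    ∀ n : ℕ, n % 5 ≠ 0 → ∃ c : Gam, c * v * c⁻¹ = v ^ n := by
  obtain ⟨v, hv, hfr, ⟨e⟩⟩ := exists_hn
  have hv' : orderOf (v : Gam) = 5 := by rw [Subgroup.orderOf_coe, hv]
  have hs : IsSimpleGroup Spor.HN := Cfsg.Agent.S1701.result.1
  have hfin : Finite Spor.HN := Nat.finite_of_card_ne_zero (by rw [Cfsg.Agent.S2056.card_HN]; norm_num)
  obtain ⟨T, hT⟩ := DP.of_split (Cfsg.Agent.H53.OddLift.commutator_eq_top_of_card Cfsg.Agent.S2056.card_HN (by norm_num))
    Nat.prime_five (Split.noStem_of_mult Cfsg.Agent.S2056.result (by norm_num)) hv' e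
  refine ⟨v, T, hT, fun n hn => ?_⟩
  have hv5 : v ^ 5 = 1 := by rw [← hv, pow_orderOf_eq_one]
  have hpo : orderOf (KChart.pi MFive.Row.hc v) = 5 := MFive.orderOf_pi chart Nat.prime_five (by decide) hv
  obtain ⟨s, hs'⟩ := isConj_iff.1 (CoFive.Ranks.isConj_pow_co1 hpo hn).symm
  obtain ⟨c, hc⟩ := MFive.exists_conj_of_conj chart Nat.prime_five (by decide) hv5 (y := v ^ n)
    (by rw [← pow_mul, mul_comm, pow_mul, hv5, one_pow]) (s := s) (by rw [map_pow]; exact hs')
  exact ⟨c, congrArg Subtype.val hc⟩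

end Cfsg.Agent.H66.M23.Loc
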