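import Cfsg.Agent.LThreeMB.Quo
import Cfsg.Prelude.Def_KGroupFacts

/-!
# The centralizer of an element of prime order with `C(v) / ⟨v⟩` perfect and multiplier prime to `p` (helper66)

If `v` has prime order `p` and `C(v) / ⟨v⟩ ≅ S` with `S` perfect and no stem extension of `S` has a kernel of order
`p`, then `C(v) = ⟨v⟩ × T` with `T = C(v)' ≅ S`, and `T` is normalized by the normalizer of `⟨v⟩`.
-/

set_option autoImplicit false

namespace Cfsg.Agent.H66.M23.Split

open Cfsg Cfsg.Agent.LThreeMB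
open Subgroup (centralizer zpowers mem_centralizer_singleton_iff)

/-- No stem extension of `S` has a kernel of order `p`. -/
def NoStem (S : Type) [Group S] (p : ℕ) : Prop :=
  ∀ (E : Type) [Group E] [Finite E] (f : E →* S), IsStemExtension f → Nat.card f.ker ≠ p

theorem noStem_of_mult {S : Type} [Group S] {m p : ℕ} (h : HasCyclicSchurMultiplier S m) (hp : ¬ p ∣ m) :
    NoStem S p := by
  intro E _ _ f hf hc
  obtain ⟨π, hπ⟩ := h.2 E f hf
  apply hp
  have hm : Nat.card (Multiplicative (ZMod m)) = m := by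
    rw [Nat.card_congr Multiplicative.toAdd, Nat.card_zmod]
  rw [← hm, ← hc]
  exact Subgroup.card_dvd_of_surjective π hπ

variable {G S : Type} [Group G] [Finite G] [Group S]

/-- **`C(v) = ⟨v⟩ × T`.** -/
theorem main (hperf : _root_.commutator S = ⊤) {p : ℕ} (hp : p.Prime) (hmul : NoStem S p) {v : G}
    (hv : orderOf v = p) (e : XX v ≃* S) :
    ∃ T : Subgroup G, T = ⁅centralizer ({v} : Set G), centralizer ({v} : Set G)⁆ ∧ T ≤ centralizer ({v} : Set G) ∧
      Nat.card (centralizer ({v} : Set G)) = p * Nat.card T ∧ v ∉ T ∧ Disjoint (zpowers v) T ∧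
      (∀ c ∈ centralizer ({v} : Set G), ∃ i : ℕ, ∃ t ∈ T, c = v ^ i * t) ∧ Nonempty (T ≃* S) := by
  obtain ⟨C, hC⟩ : ∃ C : Subgroup G, C = centralizer ({v} : Set G) := ⟨_, rfl⟩
  let f : ↥(centralizer ({v} : Set G)) →* S := e.toMonoidHom.comp (QuotientGroup.mk' (Zx v))
  have hf : Function.Surjective f := e.surjective.comp (QuotientGroup.mk'_surjective _)
  have hker : f.ker = Zx v := by
    ext g
    rw [MonoidHom.mem_ker]
    change e (QuotientGroup.mk' (Zx v) g) = 1 ↔ _
    rw [map_eq_one_iff e e.injective]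
    exact QuotientGroup.eq_one_iff g
  have hself : self v ∈ f.ker := by
    rw [hker]
    exact Subgroup.mem_zpowers _
  have hselfo : orderOf (self v) = p := by
    rw [← hv]
    exact Subgroup.orderOf_mk v _
  have hc3 : Nat.card (Zx v) = p := by rw [Zx, Nat.card_zpowers, hselfo]
  obtain ⟨D, hD⟩ : ∃ D : Subgroup ↥(centralizer ({v} : Set G)), D = _root_.commutator _ := ⟨_, rfl⟩
  have hmap : D.map f = ⊤ := by
    rw [hD, _root_.commutator_def, Subgroup.map_commutator, ← MonoidHom.range_eq_map, MonoidHom.range_eq_top.2 hf,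
      ← _root_.commutator_def, hperf]
  have hnot : self v ∉ D := by
    intro h
    have hst : IsStemExtension f := by
      refine ⟨hf, ?_, ?_⟩
      · rw [hker]
        exact Zx_le_center v
      · rw [hker, Zx, Subgroup.zpowers_le, ← hD]
        exact h
    exact hmul _ f hst (by rw [hker, hc3])
  have hdis : ∀ d ∈ D, f d = 1 → d = 1 := by
    intro d hd h1
    have h2 : d ∈ Zx v := by rw [← hker]; exact h1
    by_contra hne
    have : Fact (Nat.Prime p) := ⟨hp⟩
    have : Fact (Nat.card (Zx v)).Prime := ⟨by rw [hc3]; exact hp⟩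
    rcases Subgroup.eq_bot_or_eq_top_of_prime_card (D.subgroupOf (Zx v)) with h | h
    · have h3 : (⟨d, h2⟩ : Zx v) ∈ D.subgroupOf (Zx v) := Subgroup.mem_subgroupOf.2 hd
      rw [h, Subgroup.mem_bot] at h3
      exact hne (congrArg Subtype.val h3)
    · have h3 : (⟨self v, Subgroup.mem_zpowers _⟩ : Zx v) ∈ D.subgroupOf (Zx v) := by rw [h]; trivial
      exact hnot (Subgroup.mem_subgroupOf.1 h3)
  have hbij : Function.Bijective (f.comp D.subtype) := by
    constructor
    · rw [injective_iff_map_eq_one]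
      intro d hd
      exact Subtype.ext (hdis d d.2 hd)
    · intro y
      have hy : y ∈ D.map f := by rw [hmap]; trivial
      obtain ⟨d, hd, hdy⟩ := hy
      exact ⟨⟨d, hd⟩, hdy⟩
  let eD : D ≃* S := MulEquiv.ofBijective (f.comp D.subtype) hbij
  obtain ⟨T, hT⟩ : ∃ T : Subgroup G, T = D.map (centralizer ({v} : Set G)).subtype := ⟨_, rfl⟩
  have eT0 : T ≃* S := by
    rw [hT]
    exact (D.equivMapOfInjective (centralizer ({v} : Set G)).subtype
      (Subgroup.subtype_injective _)).symm.trans eD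
  have hTcomm : T = ⁅centralizer ({v} : Set G), centralizer ({v} : Set G)⁆ := by
    rw [hT, hD, Subgroup.map_subtype_commutator]
  have hTC : T ≤ centralizer ({v} : Set G) := by
    rw [hT]
    exact Subgroup.map_subtype_le D
  have hfin : Finite S := Finite.of_surjective f hf
  have hcard : Nat.card (centralizer ({v} : Set G)) = p * Nat.card T := by
    rw [Subgroup.card_eq_card_quotient_mul_card_subgroup (Zx v), Nat.card_congr eT0.toEquiv, hc3, mul_comm]
    congr 1
    exact Nat.card_congr e.toEquiv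
  have hvT : v ∉ T := by
    intro h
    rw [hT] at h
    obtain ⟨d, hd, hdv⟩ := h
    apply hnot
    have h1 : d = self v := Subtype.ext hdv
    rw [← h1]
    exact hd
  refine ⟨T, hTcomm, hTC, hcard, hvT, ?_, ?_, ⟨eT0⟩⟩
  · rw [Subgroup.disjoint_def]
    intro x hx hxT
    rw [hT] at hxT
    obtain ⟨d, hd, rfl⟩ := hxT
    obtain ⟨i, hi⟩ := Subgroup.mem_zpowers_iff.1 hx
    have h1 : d = self v ^ i := by
      apply Subtype.ext
      rw [Subgroup.coe_zpow]
      exact hi.symm
    have h2 : f d = 1 := by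
      have h3 : d ∈ f.ker := by
        rw [h1]
        exact Subgroup.zpow_mem _ hself i
      exact h3
    rw [hdis d hd h2]
    rfl
  · intro c hc
    obtain ⟨⟨d, hd⟩, hdc⟩ := hbij.2 (f ⟨c, hc⟩)
    have h1 : (⟨c, hc⟩ : ↥(centralizer ({v} : Set G))) * d⁻¹ ∈ f.ker := by
      rw [MonoidHom.mem_ker, map_mul, map_inv, ← hdc]
      simp
    rw [hker, Zx] at h1
    obtain ⟨i, hi⟩ := (Submonoid.mem_powers_iff _ _).1 ((mem_powers_iff_mem_zpowers).2 h1)
    refine ⟨i, (d : G), ?_, ?_⟩
    · rw [hT]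
      exact ⟨d, hd, rfl⟩
    · have h2 := congrArg Subtype.val hi
      have h3 : v ^ i = c * (d : G)⁻¹ := h2
      rw [h3, inv_mul_cancel_right]

/-- The normalizer of `⟨v⟩` normalizes `C(v)`. -/
theorem conj_mem {v n : G} {k : ℤ} (hn : n * v * n⁻¹ = v ^ k) {p : ℕ} (hp : p.Prime) (hv : orderOf v = p) (g : G)
    (hg : g ∈ centralizer ({v} : Set G)) : n * g * n⁻¹ ∈ centralizer ({v} : Set G) := by
  have hv1 : v ≠ 1 := by
    rintro rfl
    rw [orderOf_one] at hv
    exact hp.one_lt.ne hv
  have : Fact p.Prime := ⟨hp⟩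
  have hnv : v ∈ zpowers (v ^ k) := by
    have h1 : v ^ k ≠ 1 := by
      rw [← hn]
      intro h
      apply hv1
      have : n⁻¹ * (n * v * n⁻¹) * n = n⁻¹ * 1 * n := by rw [h]
      simpa [mul_assoc] using this
    have h2 : orderOf (v ^ k) = p := by
      rw [← hn]
      have := (MulAut.conj n).toMonoidHom
      rw [← hv]
      exact orderOf_injective (MulAut.conj n).toMonoidHom (MulAut.conj n).injective v
    have h3 : zpowers (v ^ k) = zpowers v := by
      apply Subgroup.eq_of_le_of_card_ge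
      · rw [Subgroup.zpowers_le]
        exact Subgroup.zpow_mem _ (Subgroup.mem_zpowers v) k
      · rw [Nat.card_zpowers, Nat.card_zpowers, h2, hv]
    rw [h3]
    exact Subgroup.mem_zpowers v
  obtain ⟨j, hj⟩ := Subgroup.mem_zpowers_iff.1 hnv
  rw [mem_centralizer_singleton_iff] at hg ⊢
  have h1 : Commute g (v ^ j) := (show Commute g v from hg).zpow_right j
  have h2 : n * v ^ j * n⁻¹ = v := by
    rw [← hj]
    have h3 : n * v ^ j * n⁻¹ = (n * v * n⁻¹) ^ j := by
      rw [conj_zpow]
    rw [hj, h3, hn, hj]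
  calc n * g * n⁻¹ * v = n * g * n⁻¹ * (n * v ^ j * n⁻¹) := by rw [h2]
    _ = n * (g * v ^ j) * n⁻¹ := by group
    _ = n * (v ^ j * g) * n⁻¹ := by rw [h1.eq]
    _ = (n * v ^ j * n⁻¹) * (n * g * n⁻¹) := by group
    _ = v * (n * g * n⁻¹) := by rw [h2]

/-- The normalizer of `⟨v⟩` normalizes `T = C(v)'`. -/
theorem conj_mem_T {v n : G} {k : ℤ} (hn : n * v * n⁻¹ = v ^ k) {p : ℕ} (hp : p.Prime) (hv : orderOf v = p)
    {T : Subgroup G} (hT : T = ⁅centralizer ({v} : Set G), centralizer ({v} : Set G)⁆) (t : G) (ht : t ∈ T) :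
    n * t * n⁻¹ ∈ T := by
  have h1 : (centralizer ({v} : Set G)).map (MulAut.conj n).toMonoidHom ≤ centralizer ({v} : Set G) := by
    rintro _ ⟨g, hg, rfl⟩
    exact conj_mem hn hp hv g hg
  have h2 : T.map (MulAut.conj n).toMonoidHom ≤ T := by
    rw [hT, Subgroup.map_commutator]
    exact Subgroup.commutator_mono h1 h1
  exact h2 (Subgroup.mem_map_of_mem _ ht)

end Cfsg.Agent.H66.M23.Split
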